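import Cfsg.Agent.Lib.Helper35.OTGroup

set_option autoImplicit false
set_option maxRecDepth 100000
set_option maxHeartbeats 0

namespace Cfsg.Agent.Helper35.OTG.G01

open Cfsg.Agent.Helper35.OT

def dat : Cfsg.Agent.Helper35.OT.Data where
  n := 2
  gens := [(1, 1)]
  tree := (.node (.node .leaf 1 2 1 2 1 [2] .leaf) 2 1 0 0 0 [1] .leaf)
  idc := 2

theorem dat_check : dat.check = true := by decide +kernel

theorem dat_ok : dat.Ok := Data.ok_of_check dat dat_check

def tab : ℕ → ℕ := lk [(1, 1), (2, 2), (3, 1), (4, 2), (6, 2), (7, 1), (12, 2), (14, 2), (21, 1), (28, 2), (42, 2), (84, 2)]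

theorem dat_tab : ∀ e ∈ divs84, dat.cnt e = tab e := by decide +kernel

theorem fc_tab (d : ℕ) : fc dat.grp d = tab (Nat.gcd d 84) := dat_ok.fc_tab tab dat_tab d

end Cfsg.Agent.Helper35.OTG.G01
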