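import Cfsg.Agent.Lib.Helper35.OTGroup

set_option autoImplicit false
set_option maxRecDepth 100000
set_option maxHeartbeats 0

namespace Cfsg.Agent.Helper35.OTG.G03

open Cfsg.Agent.Helper35.OT

def dat : Cfsg.Agent.Helper35.OT.Data where
  n := 3
  gens := [(15, 15), (7, 11)]
  tree := (.node (.node (.node .leaf 5 2 2 15 7 [11, 19] .leaf) 7 3 1 21 7 [19, 11] (.node .leaf 11 3 2 7 7 [5, 21] .leaf)) 15 2 1 21 15 [21, 5] (.node (.node .leaf 19 2 2 7 15 [7, 15] .leaf) 21 1 0 0 0 [15, 7] .leaf))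
  idc := 21

theorem dat_check : dat.check = true := by decide +kernel

theorem dat_ok : dat.Ok := Data.ok_of_check dat dat_check

def tab : ℕ → ℕ := lk [(1, 1), (2, 4), (3, 3), (4, 4), (6, 6), (7, 1), (12, 6), (14, 4), (21, 3), (28, 4), (42, 6), (84, 6)]

theorem dat_tab : ∀ e ∈ divs84, dat.cnt e = tab e := by decide +kernel

theorem fc_tab (d : ℕ) : fc dat.grp d = tab (Nat.gcd d 84) := dat_ok.fc_tab tab dat_tab d

end Cfsg.Agent.Helper35.OTG.G03
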