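import Cfsg.Agent.Lib.Helper35.OTGroup

set_option autoImplicit false
set_option maxRecDepth 100000
set_option maxHeartbeats 0

namespace Cfsg.Agent.Helper35.OTG.G04

open Cfsg.Agent.Helper35.OT

def dat : Cfsg.Agent.Helper35.OT.Data where
  n := 7
  gens := [(800667, 800667), (526209, 133989)]
  tree := (.node (.node (.node .leaf 114381 7 3 254439 526209 [114381, 663417] .leaf) 133989 7 6 389295 526209 [133989, 800667] (.node .leaf 254439 7 2 526209 526209 [254439, 114381] .leaf)) 389295 7 5 663417 526209 [389295, 133989] (.node (.node .leaf 526209 7 1 800667 526209 [526209, 254439] .leaf) 663417 7 4 114381 526209 [663417, 389295] (.node .leaf 800667 1 0 0 0 [800667, 526209] .leaf)))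
  idc := 800667

theorem dat_check : dat.check = true := by decide +kernel

theorem dat_ok : dat.Ok := Data.ok_of_check dat dat_check

def tab : ℕ → ℕ := lk [(1, 1), (2, 1), (3, 1), (4, 1), (6, 1), (7, 7), (12, 1), (14, 7), (21, 7), (28, 7), (42, 7), (84, 7)]

theorem dat_tab : ∀ e ∈ divs84, dat.cnt e = tab e := by decide +kernel

theorem fc_tab (d : ℕ) : fc dat.grp d = tab (Nat.gcd d 84) := dat_ok.fc_tab tab dat_tab d

theorem solv : Group.IsSolvable dat.grp :=
  dat_ok.solvable 7 2 3 1 0 0 (by norm_num) (by norm_num) (by norm_num)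
    (by decide +kernel) (by decide +kernel)

end Cfsg.Agent.Helper35.OTG.G04
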