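import Cfsg.Agent.Lib.Helper35.OTGroup

set_option autoImplicit false
set_option maxRecDepth 100000
set_option maxHeartbeats 0

namespace Cfsg.Agent.Helper35.OTG.G05

open Cfsg.Agent.Helper35.OT

def dat : Cfsg.Agent.Helper35.OT.Data where
  n := 4
  gens := [(177, 177), (198, 198)]
  tree := (.node (.node (.node (.node .leaf 27 2 3 57 198 [78, 57] .leaf) 57 4 2 198 177 [198, 27] .leaf) 78 2 4 108 198 [27, 108] (.node .leaf 108 2 3 147 177 [147, 78] .leaf)) 147 4 2 177 198 [108, 177] (.node (.node .leaf 177 2 1 228 177 [228, 147] .leaf) 198 2 1 228 198 [57, 228] (.node .leaf 228 1 0 0 0 [177, 198] .leaf)))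
  idc := 228

theorem dat_check : dat.check = true := by decide +kernel

theorem dat_ok : dat.Ok := Data.ok_of_check dat dat_check

def tab : ℕ → ℕ := lk [(1, 1), (2, 6), (3, 1), (4, 8), (6, 6), (7, 1), (12, 8), (14, 6), (21, 1), (28, 8), (42, 6), (84, 8)]

theorem dat_tab : ∀ e ∈ divs84, dat.cnt e = tab e := by decide +kernel

theorem fc_tab (d : ℕ) : fc dat.grp d = tab (Nat.gcd d 84) := dat_ok.fc_tab tab dat_tab d

theorem solv : Group.IsSolvable dat.grp :=
  dat_ok.solvable 7 2 3 0 3 0 (by norm_num) (by norm_num) (by norm_num)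
    (by decide +kernel) (by decide +kernel)

end Cfsg.Agent.Helper35.OTG.G05
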