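import Cfsg.Agent.Lib.Helper35.OTGroup

set_option autoImplicit false
set_option maxRecDepth 100000
set_option maxHeartbeats 0

namespace Cfsg.Agent.Helper35.OTG.G06

open Cfsg.Agent.Helper35.OT

def dat : Cfsg.Agent.Helper35.OT.Data where
  n := 4
  gens := [(27, 27), (156, 120)]
  tree := (.node (.node (.node (.node .leaf 27 2 1 228 27 [228, 99] .leaf) 45 3 3 120 27 [120, 177] (.node .leaf 54 3 2 156 27 [156, 210] .leaf)) 78 2 4 210 156 [177, 54] (.node (.node .leaf 99 3 2 27 156 [201, 135] .leaf) 120 3 2 156 156 [45, 228] .leaf)) 135 3 3 99 156 [210, 27] (.node (.node (.node .leaf 156 3 1 228 156 [54, 120] .leaf) 177 2 4 45 156 [78, 201] .leaf) 201 3 3 99 27 [99, 45] (.node (.node .leaf 210 3 3 54 156 [135, 78] .leaf) 228 1 0 0 0 [27, 156] .leaf)))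
  idc := 228

theorem dat_check : dat.check = true := by decide +kernel

theorem dat_ok : dat.Ok := Data.ok_of_check dat dat_check

def tab : ℕ → ℕ := lk [(1, 1), (2, 4), (3, 9), (4, 4), (6, 12), (7, 1), (12, 12), (14, 4), (21, 9), (28, 4), (42, 12), (84, 12)]

theorem dat_tab : ∀ e ∈ divs84, dat.cnt e = tab e := by decide +kernel

theorem fc_tab (d : ℕ) : fc dat.grp d = tab (Nat.gcd d 84) := dat_ok.fc_tab tab dat_tab d

theorem solv : Group.IsSolvable dat.grp :=
  dat_ok.solvable 7 2 3 0 2 1 (by norm_num) (by norm_num) (by norm_num)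
    (by decide +kernel) (by decide +kernel)

end Cfsg.Agent.Helper35.OTG.G06
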