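import Cfsg.Agent.Lib.Helper35.OTGroup

set_option autoImplicit false
set_option maxRecDepth 100000
set_option maxHeartbeats 0

namespace Cfsg.Agent.Helper35.OTG.G07

open Cfsg.Agent.Helper35.OT

def dat : Cfsg.Agent.Helper35.OT.Data where
  n := 7
  gens := [(800667, 800667), (389295, 254439), (434247, 434247)]
  tree := (.node (.node (.node (.node .leaf 22875 2 2 389295 434247 [22875, 434247, 389295] .leaf) 114381 7 2 389295 389295 [114381, 526209, 569103] (.node .leaf 133989 7 4 526209 389295 [133989, 663417, 689553] .leaf)) 160125 2 4 526209 434247 [160125, 569103, 526209] (.node (.node .leaf 254439 7 3 709161 434247 [254439, 800667, 709161] .leaf) 297333 2 3 709161 389295 [297333, 689553, 663417] (.node .leaf 389295 7 1 800667 389295 [389295, 114381, 22875] .leaf))) 434247 2 1 800667 434247 [434247, 709161, 800667] (.node (.node (.node .leaf 526209 7 3 114381 389295 [526209, 133989, 160125] .leaf) 569103 2 3 114381 434247 [569103, 22875, 114381] (.node .leaf 663417 7 4 297333 434247 [663417, 254439, 297333] .leaf)) 689553 2 4 297333 389295 [689553, 160125,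 133989] (.node (.node .leaf 709161 2 2 434247 389295 [709161, 297333, 254439] .leaf) 800667 1 0 0 0 [800667, 389295, 434247] .leaf)))
  idc := 800667

theorem dat_check : dat.check = true := by decide +kernel

theorem dat_ok : dat.Ok := Data.ok_of_check dat dat_check

def tab : ℕ → ℕ := lk [(1, 1), (2, 8), (3, 1), (4, 8), (6, 8), (7, 7), (12, 8), (14, 14), (21, 7), (28, 14), (42, 14), (84, 14)]

theorem dat_tab : ∀ e ∈ divs84, dat.cnt e = tab e := by decide +kernel

theorem fc_tab (d : ℕ) : fc dat.grp d = tab (Nat.gcd d 84) := dat_ok.fc_tab tab dat_tab d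

end Cfsg.Agent.Helper35.OTG.G07
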