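import Cfsg.Agent.Lib.Helper35.OTGroup

set_option autoImplicit false
set_option maxRecDepth 100000
set_option maxHeartbeats 0

namespace Cfsg.Agent.Helper35.OTG.G08

open Cfsg.Agent.Helper35.OT

def dat : Cfsg.Agent.Helper35.OT.Data where
  n := 7
  gens := [(614847, 228819), (778191, 752055), (800667, 800667)]
  tree := (.node (.node (.node (.node (.node .leaf 65769 3 5 133989 614847 [385635, 114381, 65769] .leaf) 91905 3 4 479991 614847 [663417, 65769, 91905] .leaf) 114381 7 4 248427 614847 [752055, 91905, 114381] (.node (.node .leaf 133989 7 4 186219 778191 [65769, 228819, 133989] .leaf) 186219 3 3 228819 778191 [506085, 133989, 186219] .leaf)) 228819 3 2 614847 614847 [800667, 186219, 228819] (.node (.node (.node .leaf 248427 3 3 752055 614847 [114381, 323133, 248427] .leaf) 254439 7 4 506085 614847 [186219, 248427, 254439] .leaf) 323133 3 4 248427 778191 [643335, 254439, 323133] (.node .leaf 385635 3 5 389295 778191 [133989, 460383, 385635] .leaf))) 389295 7 4 643335 614847 [323133, 385635, 389295] (.node (.node (.node (.node .leaf 460383 3 3 526209 614847 [778191,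 389295, 460383] .leaf) 479991 3 3 663417 614847 [91905, 526209, 479991] .leaf) 506085 3 3 526209 778191 [254439, 479991, 506085] (.node (.node .leaf 526209 7 2 778191 614847 [460383, 506085, 526209] .leaf) 614847 3 1 800667 614847 [228819, 663417, 614847] .leaf)) 643335 3 3 663417 778191 [389295, 614847, 643335] (.node (.node (.node .leaf 663417 7 2 614847 778191 [479991, 643335, 663417] .leaf) 752055 3 2 778191 778191 [248427, 800667, 752055] .leaf) 778191 3 1 800667 778191 [526209, 752055, 778191] (.node .leaf 800667 1 0 0 0 [614847, 778191, 800667] .leaf))))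
  idc := 800667

theorem dat_check : dat.check = true := by decide +kernel

theorem dat_ok : dat.Ok := Data.ok_of_check dat dat_check

def tab : ℕ → ℕ := lk [(1, 1), (2, 1), (3, 15), (4, 1), (6, 15), (7, 7), (12, 15), (14, 7), (21, 21), (28, 7), (42, 21), (84, 21)]

theorem dat_tab : ∀ e ∈ divs84, dat.cnt e = tab e := by decide +kernel

theorem fc_tab (d : ℕ) : fc dat.grp d = tab (Nat.gcd d 84) := dat_ok.fc_tab tab dat_tab d

theorem solv : Group.IsSolvable dat.grp :=
  dat_ok.solvable 7 2 3 1 0 1 (by norm_num) (by norm_num) (by norm_num)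
    (by decide +kernel) (by decide +kernel)

end Cfsg.Agent.Helper35.OTG.G08
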