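import Cfsg.Agent.Lib.Helper35.OTGroup

set_option autoImplicit false
set_option maxRecDepth 100000
set_option maxHeartbeats 0

namespace Cfsg.Agent.Helper35.OTG.G09

open Cfsg.Agent.Helper35.OT

def dat : Cfsg.Agent.Helper35.OT.Data where
  n := 8
  gens := [(3076262, 8559803), (15226484, 15075221)]
  tree := (.node (.node (.node (.node (.node .leaf 1450939 4 4 5143425 3076262 [15075221, 1688554] .leaf) 1688554 3 4 9035201 3076262 [10847718, 1913716] (.node .leaf 1913716 6 5 1688554 15226484 [12912991, 1450939] .leaf)) 2838815 4 2 3076262 15226484 [6496042, 3399893] (.node (.node .leaf 3076262 3 1 16434824 3076262 [8559803, 2838815] .leaf) 3399893 6 3 2838815 15226484 [4430580, 3076262] .leaf)) 4430580 4 4 3399893 3076262 [14133448, 5143425] (.node (.node (.node .leaf 5143425 6 3 15075221 3076262 [1450939, 5818911] .leaf) 5818911 3 4 5143425 15226484 [7646758, 4430580] .leaf) 6496042 6 3 2838815 3076262 [12530952, 7434049] (.node (.node .leaf 7434049 2 4 6496042 15226484 [1913716, 7646758] .leaf) 7646758 6 5 7434049 15226484 [10271765, 6496042] .leaf)))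 8559803 3 2 3076262 3076262 [16434824, 9035201] (.node (.node (.node (.node .leaf 9035201 6 3 8559803 15226484 [1688554, 10271765] .leaf) 10271765 4 4 9035201 15226484 [5818911, 8559803] .leaf) 10847718 4 4 11560059 15226484 [9035201, 12530952] (.node (.node .leaf 11560059 6 3 13400170 3076262 [15226484, 10847718] .leaf) 12530952 3 4 6496042 3076262 [2838815, 11560059] .leaf)) 12912991 6 3 13400170 15226484 [7434049, 14133448] (.node (.node (.node .leaf 13400170 4 2 15226484 3076262 [11560059, 12912991] .leaf) 14133448 3 4 12912991 15226484 [3399893, 13400170] .leaf) 15075221 3 2 15226484 15226484 [5143425, 16434824] (.node (.node .leaf 15226484 3 1 16434824 15226484 [13400170, 15075221] .leaf) 16434824 1 0 0 0 [3076262, 15226484] .leaf))))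
  idc := 16434824

theorem dat_check : dat.check = true := by decide +kernel

theorem dat_ok : dat.Ok := Data.ok_of_check dat dat_check

def tab : ℕ → ℕ := lk [(1, 1), (2, 2), (3, 9), (4, 8), (6, 18), (7, 1), (12, 24), (14, 2), (21, 9), (28, 8), (42, 18), (84, 24)]

theorem dat_tab : ∀ e ∈ divs84, dat.cnt e = tab e := by decide +kernel

theorem fc_tab (d : ℕ) : fc dat.grp d = tab (Nat.gcd d 84) := dat_ok.fc_tab tab dat_tab d

end Cfsg.Agent.Helper35.OTG.G09
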