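import Cfsg.Agent.Lib.Helper35.OTGroup

set_option autoImplicit false
set_option maxRecDepth 100000
set_option maxHeartbeats 0

namespace Cfsg.Agent.Helper35.OTG.G10

open Cfsg.Agent.Helper35.OT

def dat : Cfsg.Agent.Helper35.OT.Data where
  n := 4
  gens := [(198, 198), (156, 120)]
  tree := (.node (.node (.node (.node (.node .leaf 27 2 4 57 198 [57, 99] .leaf) 30 4 2 198 156 [45, 114] (.node .leaf 39 2 4 75 156 [54, 147] .leaf)) 45 3 3 30 198 [30, 177] (.node (.node .leaf 54 3 5 39 198 [39, 210] .leaf) 57 4 3 141 156 [27, 225] .leaf)) 75 4 3 120 198 [120, 39] (.node (.node (.node .leaf 78 2 6 210 156 [108, 54] .leaf) 99 3 4 114 198 [114, 135] .leaf) 108 2 7 216 156 [78, 180] (.node (.node .leaf 114 4 3 30 156 [99, 198] .leaf) 120 3 2 156 156 [75, 228] .leaf))) 135 3 5 99 156 [180, 27] (.node (.node (.node (.node .leaf 141 4 2 156 198 [156, 57] .leaf) 147 4 5 177 198 [177, 75] .leaf) 156 3 1 228 156 [141, 120] (.node (.node .leaf 177 2 4 45 156 [147, 201] .leaf) 180 2 6 135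 198 [135, 216] .leaf)) 198 2 1 228 198 [228, 30] (.node (.node (.node .leaf 201 3 5 177 156 [216, 45] .leaf) 210 3 5 225 198 [225, 78] .leaf) 216 2 6 201 198 [201, 108] (.node (.node .leaf 225 2 4 57 156 [210, 141] .leaf) 228 1 0 0 0 [198, 156] .leaf))))
  idc := 228

theorem dat_check : dat.check = true := by decide +kernel

theorem dat_ok : dat.Ok := Data.ok_of_check dat dat_check

def tab : ℕ → ℕ := lk [(1, 1), (2, 10), (3, 9), (4, 16), (6, 18), (7, 1), (12, 24), (14, 10), (21, 9), (28, 16), (42, 18), (84, 24)]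

theorem dat_tab : ∀ e ∈ divs84, dat.cnt e = tab e := by decide +kernel

theorem fc_tab (d : ℕ) : fc dat.grp d = tab (Nat.gcd d 84) := dat_ok.fc_tab tab dat_tab d

theorem solv : Group.IsSolvable dat.grp :=
  dat_ok.solvable 7 2 3 0 3 1 (by norm_num) (by norm_num) (by norm_num)
    (by decide +kernel) (by decide +kernel)

end Cfsg.Agent.Helper35.OTG.G10
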