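import Cfsg.Agent.Lib.Helper35.OTGroup

set_option autoImplicit false
set_option maxRecDepth 100000
set_option maxHeartbeats 0

namespace Cfsg.Agent.Helper35.OTG.G11

open Cfsg.Agent.Helper35.OT

def dat : Cfsg.Agent.Helper35.OT.Data where
  n := 11
  gens := [(282454656555, 282448923055), (252242136295, 232754965295)]
  tree := (.node (.node (.node (.node (.node .leaf 202550700595 14 5 252244085005 252242136295 [202559204095, 232756914005] .leaf) 202551521955 14 3 252246033645 252242136295 [202561152805, 232758862645] (.node .leaf 202553368185 14 4 252247981515 252242136295 [202550700595, 232760810515] .leaf)) 202555307585 14 4 252249920915 252242136295 [202551521955, 232762749915] (.node (.node .leaf 202557255455 14 3 252251767145 252242136295 [202553368185, 232764596145] .leaf) 202559204095 14 5 252252588505 252242136295 [202555307585, 232765417505] (.node .leaf 202561152805 2 2 252242136295 252242136295 [202557255455, 232754965295] .leaf))) 232754965295 4 3 202561152805 252242136295 [232758862645, 282458553905] (.node (.node (.node .leaf 232756914005 4 6 202550700595 252242136295 [232760810515, 282448101695] .leaf) 232758862645 4 4 202551521955 252242136295 [232762749915, 282448923055] (.node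 .leaf 232760810515 4 5 202553368185 252242136295 [232764596145, 282450769285] .leaf)) 232762749915 4 5 202555307585 252242136295 [232765417505, 282452708685] (.node (.node .leaf 232764596145 4 4 202557255455 252242136295 [232754965295, 282454656555] .leaf) 232765417505 4 6 202559204095 252242136295 [232756914005, 282456605195] .leaf))) 252242136295 4 1 282458553905 252242136295 [252246033645, 202561152805] (.node (.node (.node (.node .leaf 252244085005 4 4 282448101695 252242136295 [252247981515, 202550700595] .leaf) 252246033645 4 2 252242136295 282454656555 [252249920915, 202551521955] (.node .leaf 252247981515 4 3 282450769285 252242136295 [252251767145, 202553368185] .leaf)) 252249920915 4 3 252246033645 282454656555 [252252588505, 202555307585] (.node (.node .leaf 252251767145 4 2 282454656555 252242136295 [252242136295, 202557255455] .leaf) 252252588505 4 4 252249920915 282454656555 [252244085005, 202559204095] .leaf)) 282448101695 7 3 282450769285 282454656555 [282456605195, 252244085005] (.node (.node (.node .leaf 282448923055 7 5 232758862645 252242136295 [282458553905, 252246033645] .leaf) 282450769285 7 2 282454656555 282454656555 [282448101695, 252247981515] (.node .leaf 282452708685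 7 5 282456605195 282454656555 [282448923055, 252249920915] .leaf)) 282454656555 7 1 282458553905 282454656555 [282450769285, 252251767145] (.node (.node .leaf 282456605195 7 4 282448101695 282454656555 [282452708685, 252252588505] .leaf) 282458553905 1 0 0 0 [282454656555, 252242136295] .leaf))))
  idc := 282458553905

theorem dat_check : dat.check = true := by decide +kernel

theorem dat_ok : dat.Ok := Data.ok_of_check dat dat_check

def tab : ℕ → ℕ := lk [(1, 1), (2, 2), (3, 1), (4, 16), (6, 2), (7, 7), (12, 16), (14, 14), (21, 7), (28, 28), (42, 14), (84, 28)]

theorem dat_tab : ∀ e ∈ divs84, dat.cnt e = tab e := by decide +kernel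

theorem fc_tab (d : ℕ) : fc dat.grp d = tab (Nat.gcd d 84) := dat_ok.fc_tab tab dat_tab d

theorem solv : Group.IsSolvable dat.grp :=
  dat_ok.solvable 7 2 3 1 2 0 (by norm_num) (by norm_num) (by norm_num)
    (by decide +kernel) (by decide +kernel)

end Cfsg.Agent.Helper35.OTG.G11
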