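import Cfsg.Agent.Lib.Helper35.OTGroup

set_option autoImplicit false
set_option maxRecDepth 100000
set_option maxHeartbeats 0

namespace Cfsg.Agent.Helper35.OTG.G12

open Cfsg.Agent.Helper35.OT

def dat : Cfsg.Agent.Helper35.OT.Data where
  n := 7
  gens := [(689553, 689553), (752055, 778191)]
  tree := (.node (.node (.node (.node (.node (.node .leaf 22875 2 6 45351 752055 [133989, 71487] .leaf) 45351 6 5 248427 689553 [248427, 22875] .leaf) 65769 3 6 114381 752055 [363159, 91905] (.node (.node .leaf 71487 6 7 22875 752055 [479991, 45351] .leaf) 91905 3 4 594723 689553 [594723, 114381] .leaf)) 114381 7 5 91905 752055 [709161, 65769] (.node (.node (.node .leaf 133989 7 7 22875 689553 [22875, 186219] .leaf) 160125 2 6 254439 689553 [254439, 208695] .leaf) 180207 6 8 208695 752055 [385635, 160125] (.node .leaf 186219 3 6 500409 689553 [500409, 228819] .leaf))) 208695 6 7 160125 752055 [614847, 180207] (.node (.node (.node (.node .leaf 228819 3 7 186219 752055 [731637, 133989] .leaf) 248427 3 4 323133 752055 [45351, 254439] .leaf) 254439 7 5 248427 752055 [160125, 323133] (.node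 (.node .leaf 297333 2 4 317457 752055 [389295, 343551] .leaf) 317457 6 3 343551 752055 [506085, 297333] .leaf)) 323133 3 3 637323 689553 [637323, 248427] (.node (.node (.node .leaf 343551 6 2 752055 689553 [752055, 317457] .leaf) 363159 6 7 65769 689553 [65769, 437907] .leaf) 385635 3 7 460383 752055 [180207, 389295] (.node .leaf 389295 7 5 297333 689553 [297333, 460383] .leaf)))) 434247 2 6 526209 689553 [526209, 363159] (.node (.node (.node (.node (.node .leaf 437907 6 8 363159 752055 [643335, 434247] .leaf) 460383 3 6 389295 752055 [757773, 385635] .leaf) 479991 3 6 526209 752055 [71487, 506085] (.node (.node .leaf 500409 6 5 569103 752055 [186219, 575115] .leaf) 506085 3 4 317457 689553 [317457, 526209] .leaf)) 526209 7 5 506085 752055 [434247, 479991] (.node (.node (.node .leaf 569103 2 4 575115 752055 [663417, 500409] .leaf) 575115 6 3 778191 689553 [778191, 569103] .leaf) 594723 6 3 637323 752055 [91905, 689553] (.node .leaf 614847 3 6 663417 752055 [208695, 643335] .leaf))) 637323 6 2 689553 752055 [323133, 594723] (.node (.node (.node (.node .leaf 643335 3 7 614847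 752055 [437907, 663417] .leaf) 663417 7 5 569103 689553 [569103, 614847] .leaf) 689553 2 1 800667 689553 [800667, 637323] (.node .leaf 709161 2 6 114381 689553 [114381, 757773] .leaf)) 731637 6 8 757773 752055 [228819, 709161] (.node (.node (.node .leaf 752055 3 1 800667 752055 [343551, 778191] .leaf) 757773 6 7 709161 752055 [460383, 731637] .leaf) 778191 3 2 752055 752055 [575115, 800667] (.node .leaf 800667 1 0 0 0 [689553, 752055] .leaf)))))
  idc := 800667

theorem dat_check : dat.check = true := by decide +kernel

theorem dat_ok : dat.Ok := Data.ok_of_check dat dat_check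

def tab : ℕ → ℕ := lk [(1, 1), (2, 8), (3, 15), (4, 8), (6, 36), (7, 7), (12, 36), (14, 14), (21, 21), (28, 14), (42, 42), (84, 42)]

theorem dat_tab : ∀ e ∈ divs84, dat.cnt e = tab e := by decide +kernel

theorem fc_tab (d : ℕ) : fc dat.grp d = tab (Nat.gcd d 84) := dat_ok.fc_tab tab dat_tab d

theorem solv : Group.IsSolvable dat.grp :=
  dat_ok.solvable 7 2 3 1 1 1 (by norm_num) (by norm_num) (by norm_num)
    (by decide +kernel) (by decide +kernel)

end Cfsg.Agent.Helper35.OTG.G12
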